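import Mathlib

/-! Flatness is insensitive to étale changes of the base. -/

set_option autoImplicit false
open TensorProduct
universe u v

namespace Groth.Agent.EtaleFlatLib

theorem flat_of_unramified (R T : Type u) [CommRing R] [CommRing T] [Algebra R T]
    [Algebra.FormallyUnramified R T] [Algebra.EssFiniteType R T]
    (N : Type u) [AddCommGroup N] [Module T N] [Module R N] [IsScalarTower R T N] [Module.Flat R N] :
    Module.Flat T N := by
  classical
  obtain ⟨t, ht, ht1⟩ := Algebra.FormallyUnramified.iff_exists_tensorProduct.1
    (inferInstance : Algebra.FormallyUnramified R T)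
  obtain ⟨s, hs⟩ := TensorProduct.exists_finset t
  let Φ : N → T ⊗[R] T →ₗ[R] T ⊗[R] N := fun n =>
    LinearMap.lTensor T (((LinearMap.toSpanSingleton T N n).restrictScalars R))
  let σ : N →ₗ[T] T ⊗[R] N :=
    { toFun := fun n => Φ n t
      map_add' := fun a b => by simp [Φ, hs, TensorProduct.tmul_add, Finset.sum_add_distrib]
      map_smul' := fun c n => by
        have h1 := congrArg (Φ n) (sub_eq_zero.1 ((sub_mul _ _ t).symm.trans (ht c)))
        simp only [hs, Finset.mul_sum, Algebra.TensorProduct.tmul_mul_tmul, one_mul, map_sum, Φ,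
          LinearMap.lTensor_tmul, LinearMap.restrictScalars_apply, LinearMap.toSpanSingleton_apply] at h1
        simp only [RingHom.id_apply, hs, map_sum, Finset.smul_sum, Φ, LinearMap.lTensor_tmul,
          LinearMap.restrictScalars_apply, LinearMap.toSpanSingleton_apply, TensorProduct.smul_tmul', smul_eq_mul,
          smul_smul]
        simp only [mul_comm _ c]
        exact h1 }
  let μ : T ⊗[R] N →ₗ[T] N := TensorProduct.AlgebraTensorModule.lift
    ((LinearMap.lsmul T N).flip.restrictScalars R).flip
  refine Module.Flat.of_retract σ μ (LinearMap.ext fun n => ?_)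
  have h2 : μ (Φ n t) = Algebra.TensorProduct.lmul' R t • n := by
    rw [hs, map_sum, map_sum, map_sum, Finset.sum_smul]
    refine Finset.sum_congr rfl fun p _ => ?_
    simp [Φ, μ, smul_smul, mul_comm]
  exact h2.trans (by rw [ht1, one_smul]; rfl)

theorem flat_iff_of_etale (R T : Type u) [CommRing R] [CommRing T] [Algebra R T] [Algebra.Etale R T]
    (N : Type u) [AddCommGroup N] [Module T N] [Module R N] [IsScalarTower R T N] :
    Module.Flat R N ↔ Module.Flat T N :=
  ⟨fun _ => flat_of_unramified R T N, fun _ => Module.Flat.trans R T N⟩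

end Groth.Agent.EtaleFlatLib
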